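import Cfsg.Agent.Lib.Co2Three.Defs

/-!
What the local analysis at the involution `t` gives on the signaliser `W` of order 512 before the group
`N(W) ∩ C(t)` is identified: the centralisers of a singular and of an exterior point of the plane fixed by `t`, one
element at an interior point moving the plane, and the bound at the interior point.
-/

set_option autoImplicit false

namespace Cfsg.Agent.Co2Three

open Subgroup

/-- An interior point of the plane fixed by `t`. -/
def ci : V4 := ![1, 0, 0, 1]

/-- The signaliser with what is known about its normaliser. -/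
structure Mid {G : Type*} [Group G] [Finite G] (L : Loc G) (W : Subgroup G) : Prop where
  le : W ≤ centralizer {L.t}
  extra : Cfsg.IsExtraspecial 2 W
  card : Nat.card W = 512
  plane : ∀ v : V4, v 1 = 0 → L.el v ∈ normalizer (W : Set G)
  norm_plane : ∀ g ∈ centralizer ({L.t} : Set G), (∀ v : V4, v 1 = 0 → ∃ w : V4, g * L.el v * g⁻¹ = L.el w) →
    g ∈ normalizer (W : Set G)
  cent_plane : ∀ g ∈ centralizer ({L.t} : Set G), (∀ v : V4, v 1 = 0 → Commute g (L.el v)) →
    ∃ v : V4, v 1 = 0 ∧ (g = L.el v ∨ g = L.t * L.el v)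
  P_le : L.P ≤ W
  fix_point : ∀ x ∈ W, Commute x (L.el e0) → x ∈ L.P
  fix_interior : ∀ x ∈ W, Commute x (L.el ci) → x = 1 ∨ x = L.t
  /-- `W` is the largest signaliser of the plane -/
  sig : ∀ K : Subgroup G, K ≤ centralizer {L.t} → (Nat.card K).Coprime 3 →
    (∀ v : V4, v 1 = 0 → ∀ k ∈ K, L.el v * k * (L.el v)⁻¹ ∈ K) → K ≤ W
  cent_singular : centralizer ({L.el e0} : Set G) ⊓ centralizer {L.t} ≤ normalizer (W : Set G)
  cent_exterior : centralizer ({L.el e2} : Set G) ⊓ centralizer {L.t} ≤ normalizer (W : Set G)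
  card_exterior : Nat.card ↥(centralizer ({L.el e2} : Set G) ⊓ centralizer {L.t}) = 3456
  /-- the group at an interior point is not inside the normaliser of the plane -/
  mover : ∃ y ∈ centralizer ({L.el ci} : Set G) ⊓ centralizer {L.t}, y ∈ normalizer (W : Set G) ∧
    ∃ v : V4, v 1 = 0 ∧ ∀ w : V4, y * L.el v * y⁻¹ ≠ L.el w
  card_interior : Nat.card ↥(centralizer ({L.el ci} : Set G) ⊓ centralizer {L.t}) ≤ 4320

end Cfsg.Agent.Co2Three
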